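import Cfsg.Agent.Ico.Gen
import Cfsg.Agent.PermTab.J2

/-!
# More checks for the icosian reflection group (owner: helper7)
-/

set_option autoImplicit false

namespace Cfsg.Agent.Ico

open Quaternion Cfsg.Spor Cfsg.Agent.PermTab MulAction

/-- straight-line program from the companion permutations to the generators of `J2Tab.J` -/
def progC : List (ℕ × ℕ) := [(3, 1), (3, 0), (3, 0), (5, 0), (7, 0), (5, 0), (8, 7), (8, 0), (11, 0), (11, 0), (11, 0), (12, 13), (14, 0), (14, 0), (1, 17), (1, 0), (17, 1), (1, 0), (0, 10), (22, 19), (1, 0), (6, 4), (1, 0), (23, 24), (27, 0), (2, 0), (4, 1), (1, 0), (29, 28), (1, 0), (32, 1), (32, 0), (2, 0), (6, 4), (1, 0), (6, 1), (1, 0), (37, 20), (1, 0), (22, 1), (1, 0), (9, 5), (1, 0), (5, 7), (1, 0), (3, 20), (1, 0), (11, 7), (1, 0), (38, 0), (0, 0), (54, 0), (2, 0), (3, 0), (57, 0), (49, 0), (6, 5), (58, 60), (0, 60), (0, 62), (0, 60), (0, 64), (0, 63), (17, 15), (15, 0), (2, 0), (9, 0), (69, 0), (12, 0), (0, 71), (72, 62), (74, 0), (72, 0), (75, 16), (77, 0), (2, 0), (79, 9),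 (10, 0), (2, 0), (29, 22), (80, 81), (0, 83), (18, 38), (18, 0), (2, 0), (5, 0), (88, 89), (1, 0), (9, 0)]

/-- line table of generator `k` -/
def genTab (k : ℕ) : ℕ := Nat.rec (motive := fun _ => ℕ) gen0L (fun k _ => Nat.rec (motive := fun _ => ℕ) gen1L
  (fun k _ => Nat.rec (motive := fun _ => ℕ) gen2L (fun _ _ => gen3L) k) k) k

/-- line of generator `k` -/
def genLine (k : ℕ) : ℕ := Nat.rec (motive := fun _ => ℕ) 133 (fun k _ => Nat.rec (motive := fun _ => ℕ) 198
  (fun k _ => Nat.rec (motive := fun _ => ℕ) 309 (fun _ _ => 85) k) k) k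

/-- companion of generator `k` -/
def genComp (k : ℕ) : ℕ := Nat.rec (motive := fun _ => ℕ) comp0 (fun k _ => Nat.rec (motive := fun _ => ℕ) comp1
  (fun k _ => Nat.rec (motive := fun _ => ℕ) comp2 (fun _ _ => comp3) k) k) k

/-- tree step -/
def chkPar (i : ℕ) : Bool := match Nat.beq i 133 with
  | true => true
  | false => fc (tget 9 parL i) fun p => match Nat.blt p 315 with
    | false => false
    | true => match Nat.beq (tget 9 (genTab (tget 2 parG i)) p) i with
      | false => false
      | true => Nat.blt (tget 4 parD p) (tget 4 parD i)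

theorem par_ok : nall chkPar 315 = true := by decide +kernel

/-- mask bit -/
def mbit (m a : ℕ) : Bool := Nat.beq (Nat.land (Nat.shiftRight m a) 1) 1

/-- relation preserved -/
def chkRel (L C : ℕ) (i : ℕ) : Bool := fc (tget 100 maskT i) fun m => fc (tget 100 maskT (tget 9 L i)) fun m' =>
  nall (fun a => Bool.rec (Bool.rec true false (mbit m a)) (mbit m a) (mbit m' (tget 7 C a))) 100

theorem rel0 : nall (chkRel gen0L comp0) 315 = true := by decide +kernel
theorem rel1 : nall (chkRel gen1L comp1) 315 = true := by decide +kernel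
theorem rel2 : nall (chkRel gen2L comp2) 315 = true := by decide +kernel
theorem rel3 : nall (chkRel gen3L comp3) 315 = true := by decide +kernel

/-- masks are different -/
def chkNe (i : ℕ) : Bool := fc (tget 100 maskT i) fun m => nall (fun j => Bool.rec true false (Nat.beq (tget 100 maskT j) m)) i

theorem ne_ok : nall chkNe 315 = true := by decide +kernel

/-- points are separated -/
def chkSep (a : ℕ) : Bool := nall (fun b => Bool.rec true false (nall (fun i => fc (tget 100 maskT i) fun m =>
  Bool.rec (Bool.rec true false (mbit m b)) (mbit m b) (mbit m a)) 315)) a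

theorem sep_ok : nall chkSep 100 = true := by decide +kernel

theorem comp_valid (k : ℕ) : tvalid 7 100 (genComp k) = true := by
  have h : tvalid 7 100 comp0 = true ∧ tvalid 7 100 comp1 = true ∧ tvalid 7 100 comp2 = true ∧ tvalid 7 100 comp3 = true := by
    decide +kernel
  obtain ⟨h0, h1, h2, h3⟩ := h
  match k with
  | 0 => exact h0
  | 1 => exact h1
  | 2 => exact h2
  | k + 3 => exact h3

theorem comp_sift (k : ℕ) : sift 7 100 J2Tab.idt J2Tab.chain (genComp k) = true := by
  have h : sift 7 100 J2Tab.idt J2Tab.chain comp0 = true ∧ sift 7 100 J2Tab.idt J2Tab.chain comp1 = true ∧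
      sift 7 100 J2Tab.idt J2Tab.chain comp2 = true ∧ sift 7 100 J2Tab.idt J2Tab.chain comp3 = true := by
    decide +kernel
  obtain ⟨h0, h1, h2, h3⟩ := h
  match k with
  | 0 => exact h0
  | 1 => exact h1
  | 2 => exact h2
  | k + 3 => exact h3

theorem progC_ok : chkProg 7 100 comp0 progC [comp3, comp2, comp1, comp0] [J2Tab.g0, J2Tab.g1] = true := by decide +kernel

end Cfsg.Agent.Ico
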